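import Cfsg.Agent.H723.Spor.MOrders
import Cfsg.Agent.M22.Final
import Cfsg.Agent.M22.SevenSixFour_mg
import Cfsg.Agent.SporadicA.MathieuRecog
import Cfsg.Agent.Prune
set_option linter.all false
prune_inst 0x7f00000000000000000000000000000000000000000000000000000000000000000000000000000000000000000000000000000000000000000000000000000000000000000000000000000000000000003fffffffffffffffffffffffffffbeffbdffffffff
open scoped Cfsg.Agent.FastGrp

/-!
# `M22`: the degree 45 (3-defect zero) and an element of order 6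
-/

set_option autoImplicit false

namespace Cfsg.Agent.H419.Spor.M22

open Cfsg Cfsg.Agent.H713 Cfsg.Agent.H419.Row Cfsg.Agent.H419.Count Cfsg.Agent.H419.TwoTrans
  Cfsg.Agent.H419.Spor.Mathieu

/-- The degrees of the irreducible characters of a simple group of order 443520. -/
theorem degrees {G : Type*} [Group G] [Finite G] (hG : Cfsg.IsM22 G) :
    ∃ f : Fin 12 ≃ IrrCharacter G, ∀ i : Fin 12, charDegree (f i : G → ℂ) =
      Cfsg.Agent.M22.DegreesEnd.LB.getD i 0 := by
  obtain ⟨hs, hcard⟩ := hG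
  have f11 : Fact (Nat.Prime 11) := ⟨by norm_num⟩
  have f7 : Fact (Nat.Prime 7) := ⟨by norm_num⟩
  have f5 : Fact (Nat.Prime 5) := ⟨by norm_num⟩
  have h11 : ∀ Q : Sylow 11 G, Subgroup.centralizer (Q : Set G) = (Q : Subgroup G) :=
    fun Q => (Cfsg.Agent.M22.Sylow11.sylow_eleven hcard Q).1
  have h7 : ∀ P : Sylow 7 G, Subgroup.centralizer (P : Set G) = (P : Subgroup G) ∧
      (Subgroup.centralizer (P : Set G)).relIndex (Subgroup.normalizer (P : Set G)) = 3 :=
    fun P => Cfsg.Agent.M22.Sylow7Core.sylow_seven_core hcard h11 P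
      (fun _ hK h8 => Cfsg.Agent.M22.SevenThreeEight.false_three_eight hcard h11 P hK h8)
      (fun _ hK h4 => Cfsg.Agent.M22.SevenSixFour.false_six_four hcard h11 P hK h4)
  obtain ⟨P11⟩ : Nonempty (Sylow 11 G) := inferInstance
  obtain ⟨P7⟩ : Nonempty (Sylow 7 G) := inferInstance
  obtain ⟨P5⟩ : Nonempty (Sylow 5 G) := inferInstance
  have h5 := Cfsg.Agent.M22.SylowFive.sylow_five hcard P11 P7 (h11 P11) (h7 P7).1
      (Cfsg.Agent.M22.Sylow11.sylow_eleven hcard P11).2 (h7 P7).2 P5
  obtain ⟨c11, e11⟩ := Cfsg.Agent.M22.Sylow11.sylow_eleven hcard P11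
  obtain ⟨c7, e7⟩ := h7 P7
  obtain ⟨c5, e5⟩ := h5
  exact Cfsg.Agent.M22.KillACD.exists_enum_B hcard P11 P7 P5 c11 c7 c5 e11 e7 e5

theorem dz_three {G : Type*} [Group G] [Finite G] (hG : Cfsg.IsM22 G) : DZ 3 G := by
  obtain ⟨f, hf⟩ := degrees hG
  have h1 : charDegree ((f 2 : IrrCharacter G) : G → ℂ) = 45 := hf 2
  exact dz_of_dvd (n := 2) (f 2) (by rw [h1]; norm_num)
    (factorization_eq (m := 49280) Nat.prime_three (by rw [hG.2]; norm_num) (by norm_num))
    Nat.prime_three

noncomputable def x6 : Spor.M22 := ⟨T * T * cubeTwist * T * M * T * T,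
  ⟨mul_mem (mul_mem (mul_mem (mul_mem (mul_mem (mul_mem T_mem T_mem) C_mem) T_mem) M_mem) T_mem)
    T_mem, by
      show (T * T * cubeTwist * T * M * T * T) none = none
      decide +kernel⟩, by
      show (T * T * cubeTwist * T * M * T * T) (some 0) = some 0
      decide +kernel⟩

theorem x6_order : orderOf x6 = 6 := by
  refine orderOf_eq (by norm_num) ?_ ?_
  · apply Subtype.ext
    show (T * T * cubeTwist * T * M * T * T) ^ 6 = 1
    apply Equiv.ext
    decide +kernel
  · intro p hp h
    have h1 : (T * T * cubeTwist * T * M * T * T) ^ (6 / p) = 1 := congrArg (fun z => z.1) h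
    have h2 := Equiv.ext_iff.1 h1
    have h3 : p = 2 ∨ p = 3 := by
      have : p ∈ ({2, 3} : Finset ℕ) := by
        rw [show ({2, 3} : Finset ℕ) = (6 : ℕ).primeFactors by decide +kernel]
        exact hp
      simpa using this
    rcases h3 with rfl | rfl
    · revert h2
      decide +kernel
    · revert h2
      decide +kernel

theorem evMix : EvMix Spor.M22 := by
  have h : Cfsg.IsM22 Spor.M22 :=
    ⟨Cfsg.Agent.SporadicA.MathieuRecog.simple_M22, Cfsg.Agent.SporadicA.MathieuRecog.card_M22⟩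
  exact evMix_of_dz' (dz_three h) Nat.prime_three (by norm_num) x6_order

end Cfsg.Agent.H419.Spor.M22
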