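import Cfsg.Agent.H678.PV.CoSym
import Cfsg.Agent.H419.Spor.M22
import Cfsg.Agent.SporadicRecognition.HSAssemble
import Cfsg.Agent.Prune
set_option linter.all false
prune_inst 0x7f00000000000000000000000000000000000000000000000000000000000000000000000000000000000000000000000000000000000000000000000000000000000000000000000000000000000000003fffffffffffffffffffffffffffbeffbdffffffff
open scoped Cfsg.Agent.FastGrp

/-!
# `HS`: the character of degree 22 vanishes at the elements of order 6 of `M22`
-/

set_option autoImplicit false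

namespace Cfsg.Agent.H419.Spor.HS

open Cfsg Cfsg.Agent.H713 Cfsg.Agent.H419.Row Cfsg.Agent.H419.Count Cfsg.Agent.H419.LeechFix
  Cfsg.Agent.H419.LeechIrr Cfsg.Agent.Characters.Core
open Cfsg.Agent.SporadicA.Co0Mono Cfsg.Agent.SporadicA.Co1Simple
open Cfsg.Agent.H419.Spor.Mathieu
open Cfsg.Agent.Blocks.Basic (charDegree_pos irr_one_eq_charDegree)

/-- Characters of degree 22 of `M22`. -/
theorem char22 {H : Type*} [Group H] [Finite H] (hH : Cfsg.IsM22 H) {θ : IrrCharacter H}
    (hθ : charDegree (θ : H → ℂ) = 21) {ψ : H → ℂ} (hψ : IsCharacter H ψ) (h22 : ψ 1 = 22) :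
    (∀ h, ψ h = 22) ∨ (∀ h, ψ h = 1 + (θ : H → ℂ) h) := by
  classical
  have : Finite (IrrCharacter H) := finite_irr
  have := Fintype.ofFinite (IrrCharacter H)
  obtain ⟨m, hm⟩ := exists_nat_comb hψ
  obtain ⟨f, hf⟩ := M22.degrees hH
  -- the degrees
  have hd : ∀ η : IrrCharacter H, charDegree (η : H → ℂ) = 1 ∨ charDegree (η : H → ℂ) = 21 ∨
      22 < charDegree (η : H → ℂ) := by
    intro η
    obtain ⟨i, rfl⟩ := f.surjective η
    rw [hf i]
    revert i
    decide
  have huniq : ∀ η η' : IrrCharacter H, charDegree (η : H → ℂ) = charDegree (η' : H → ℂ) →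
      charDegree (η : H → ℂ) ≤ 21 → η = η' := by
    intro η η' h h'
    obtain ⟨i, rfl⟩ := f.surjective η
    obtain ⟨j, rfl⟩ := f.surjective η'
    rw [hf i, hf j] at h
    rw [hf i] at h'
    congr 1
    revert i j
    decide
  let one : IrrCharacter H := ⟨1, isIrr_one⟩
  have hone : charDegree (one : H → ℂ) = 1 := by
    have h1 := irr_one_eq_charDegree one.2
    have h2 : (one : H → ℂ) 1 = 1 := rfl
    rw [h2] at h1
    exact_mod_cast h1.symm
  have hne : one ≠ θ := by
    intro h
    rw [h, hθ] at hone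
    norm_num at hone
  have h1 : ∀ h, ψ h = ∑ η : IrrCharacter H, (m η : ℂ) * (η : H → ℂ) h := by
    intro h
    rw [hm]
    simp [Finset.sum_apply]
  have hsum : ∑ η : IrrCharacter H, m η * charDegree (η : H → ℂ) = 22 := by
    have h2 := h1 1
    rw [h22, Finset.sum_congr rfl fun η _ => by rw [irr_one_eq_charDegree η.2]] at h2
    exact_mod_cast h2.symm
  have hz : ∀ η : IrrCharacter H, η ≠ one → η ≠ θ → m η = 0 := by
    intro η hη1 hηθ
    rcases hd η with h | h | h
    · exact absurd (huniq η one (h.trans hone.symm) (by omega)) hη1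
    · exact absurd (huniq η θ (h.trans hθ.symm) (by omega)) hηθ
    · by_contra hcon
      have h3 : m η * charDegree (η : H → ℂ) ≤ ∑ η : IrrCharacter H, m η * charDegree (η : H → ℂ) :=
        Finset.single_le_sum (f := fun η : IrrCharacter H => m η * charDegree (η : H → ℂ))
          (fun _ _ => Nat.zero_le _) (Finset.mem_univ η)
      have h4 : charDegree (η : H → ℂ) ≤ m η * charDegree (η : H → ℂ) :=
        Nat.le_mul_of_pos_left _ (Nat.pos_of_ne_zero hcon)
      omega
  have hsplit : ∀ F : IrrCharacter H → ℂ, (∀ η, η ≠ one → η ≠ θ → F η = 0) →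
      ∑ η, F η = F one + F θ := by
    intro F hF
    rw [← Finset.add_sum_erase _ _ (Finset.mem_univ one),
      ← Finset.add_sum_erase _ _ (Finset.mem_erase.2 ⟨hne.symm, Finset.mem_univ θ⟩),
      Finset.sum_eq_zero, add_zero]
    intro η hη
    rw [Finset.mem_erase, Finset.mem_erase] at hη
    exact hF η hη.2.1 hη.1
  have h2 : ∀ h, ψ h = m one + m θ * (θ : H → ℂ) h := by
    intro h
    rw [h1 h, hsplit _ fun η h3 h4 => by rw [hz η h3 h4]; simp]
    have : (one : H → ℂ) h = 1 := rfl
    rw [this, mul_one]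
  have h3 : m one + m θ * 21 = 22 := by
    have h4 := h2 1
    rw [h22, irr_one_eq_charDegree θ.2, hθ] at h4
    exact_mod_cast h4.symm
  have h4 : m θ = 0 ∨ m θ = 1 := by omega
  rcases h4 with h4 | h4
  · left
    intro h
    rw [h2 h, h4]
    have : m one = 22 := by omega
    rw [this]
    norm_num
  · right
    intro h
    rw [h2 h, h4]
    have : m one = 1 := by omega
    rw [this]
    norm_num

/-- `St2` is `M22`. -/
def e2 : St2 ≃* Spor.M22 where
  toFun g := ⟨((g : St1) : M24).1, ⟨((g : St1) : M24).2, (g : St1).2⟩, congrArg Subtype.val g.2⟩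
  invFun g := ⟨⟨⟨g.1, g.2.1.1⟩, g.2.1.2⟩, Subtype.ext g.2.2⟩
  left_inv _ := rfl
  right_inv _ := rfl
  map_mul' _ _ := rfl

theorem isM22 : Cfsg.IsM22 St2 := by
  have h1 : IsSimpleGroup Spor.M22 := Cfsg.Agent.SporadicA.MathieuRecog.simple_M22
  have h2 : Nat.card Spor.M22 = 443520 := Cfsg.Agent.SporadicA.MathieuRecog.card_M22
  exact ⟨e2.isSimpleGroup_congr.2 h1, by rw [Nat.card_congr e2.toEquiv, h2]⟩

/-- the element of order 6 -/
noncomputable def y6 : St2 := e2.symm M22.x6

theorem y6_order : orderOf y6 = 6 := by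
  rw [y6, MulEquiv.orderOf_eq, M22.x6_order]

theorem y6_fix : Nat.card (MulAction.fixedBy GolayPt ((y6 : St1) : M24)) = 2 := by
  have h : ∀ p : GolayPt, (T * T * cubeTwist * T * M * T * T) p = p ↔ p = none ∨ p = some 0 := by
    decide +kernel
  have h1 : MulAction.fixedBy GolayPt ((y6 : St1) : M24) = {none, some 0} := by
    ext p
    exact h p
  rw [h1, Nat.card_coe_set_eq, Set.ncard_pair (by simp)]

/-- the inclusion in `Co0` -/
def inc : Spor.HS →* Co0 where
  toFun g := ⟨g.1, g.2.1.1⟩
  map_one' := rfl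
  map_mul' _ _ := rfl

theorem inc_injective : Function.Injective inc := fun a b h =>
  Subtype.ext (congrArg (fun z : Co0 => (z : Equiv.Perm leechLattice)) h)

theorem inc_fix (g : Spor.HS) : inc g • Spor.leechV = Spor.leechV := g.2.1.2

theorem perm_fixV (s : St2) : permCo0 ((s : St1) : M24) • Spor.leechV = Spor.leechV := by
  apply Subtype.ext
  rw [permCo0_smul]
  funext i
  have hs : (((s : St1) : M24) : Equiv.Perm GolayPt) none = none := (s : St1).2
  show Spor.vecV ((((s : St1) : M24) : Equiv.Perm GolayPt).symm i) = Spor.vecV i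
  unfold Spor.vecV
  have h1 : (((s : St1) : M24) : Equiv.Perm GolayPt).symm i = none ↔ i = none := by
    rw [Equiv.symm_apply_eq, hs]
  by_cases h : i = none
  · rw [if_pos (h1.2 h), if_pos h]
  · rw [if_neg (fun h2 => h (h1.1 h2)), if_neg h]

theorem perm_fixU (s : St2) : permCo0 ((s : St1) : M24) • Spor.leechU' = Spor.leechU' := by
  apply Subtype.ext
  rw [permCo0_smul]
  funext i
  have hs : (((s : St1) : M24) : Equiv.Perm GolayPt) none = none := (s : St1).2
  have hs0 : (((s : St1) : M24) : Equiv.Perm GolayPt) (some 0) = some 0 := congrArg Subtype.val s.2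
  show Spor.vecU' ((((s : St1) : M24) : Equiv.Perm GolayPt).symm i) = Spor.vecU' i
  unfold Spor.vecU'
  have h1 : (((s : St1) : M24) : Equiv.Perm GolayPt).symm i = none ↔ i = none := by
    rw [Equiv.symm_apply_eq, hs]
  have h2 : (((s : St1) : M24) : Equiv.Perm GolayPt).symm i = some 0 ↔ i = some 0 := by
    rw [Equiv.symm_apply_eq, hs0]
  simp only [h1, h2]

/-- `M22` in `HS`. -/
noncomputable def k : St2 →* Spor.HS where
  toFun s := ⟨(permCo0 ((s : St1) : M24)).1, ⟨(permCo0 ((s : St1) : M24)).2, perm_fixV s⟩, perm_fixU s⟩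
  map_one' := by
    have h1 : permCo0 (((1 : St2) : St1) : M24) = 1 := by
      rw [Subgroup.coe_one, Subgroup.coe_one, map_one]
    exact Subtype.ext (congrArg (fun z : Co0 => (z : Equiv.Perm leechLattice)) h1)
  map_mul' a b := by
    have h1 : permCo0 (((a * b : St2) : St1) : M24) =
        permCo0 ((a : St1) : M24) * permCo0 ((b : St1) : M24) := by
      rw [Subgroup.coe_mul, Subgroup.coe_mul, map_mul]
    exact Subtype.ext (congrArg (fun z : Co0 => (z : Equiv.Perm leechLattice)) h1)

theorem inc_k (s : St2) : inc (k s) = permCo0 ((s : St1) : M24) := rfl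

theorem order : orderOf (k y6) = 6 := by
  have h1 : orderOf (inc (k y6)) = 6 := by
    rw [inc_k, orderOf_injective permCo0 Cfsg.Agent.CoOneType.Thirteen.permCo0_injective,
      Subgroup.orderOf_coe, Subgroup.orderOf_coe]
    exact y6_order
  rwa [orderOf_injective inc inc_injective] at h1

theorem facts : IsSimpleGroup Spor.HS ∧ Nat.card Spor.HS = 44352000 := by
  obtain ⟨H, Y, _, _, _, _, a, b, c, -, h1, h2, ⟨e⟩⟩ :=
    Cfsg.Agent.SporadicRecognition.HSAssemble.hs_rank
  exact ⟨e.symm.isSimpleGroup_congr.2 h2, by rw [← Nat.card_congr e.toEquiv, h1]⟩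

theorem evMix : EvMix Spor.HS := by
  obtain ⟨hs, hcard⟩ := facts
  have hfin : Finite Spor.HS := Nat.finite_of_card_ne_zero (by rw [hcard]; norm_num)
  obtain ⟨μ, hμ⟩ := irr22 inc inc_injective (by rw [hcard]; norm_num) (by rw [hcard]; norm_num)
    k ⟨y6, fun h => by
      have := order
      rw [h, orderOf_one] at this
      norm_num at this⟩ inc_k (w := Spor.leechV) (fun h => by
      have := congrArg (fun v : leechLattice => (v : GolayPt → ℤ) none) h
      exact absurd this (by decide)) inc_fix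
  obtain ⟨θ, hθ1, hθ⟩ := exists_irr2
  have hθ21 : charDegree (θ : St2 → ℂ) = 21 := by
    have h1 := hθ 1
    have h2 : Nat.card (MulAction.fixedBy GolayPt (((1 : St2) : St1) : M24)) = 24 := by
      rw [Subgroup.coe_one, Subgroup.coe_one, MulAction.fixedBy_one_eq_univ, Nat.card_coe_set_eq,
        Set.ncard_univ, Nat.card_eq_fintype_card]
      decide
    rw [h2, irr_one_eq_charDegree θ.2] at h1
    have h3 : (24 : ℕ) = 3 + charDegree (θ : St2 → ℂ) := by exact_mod_cast h1
    omega
  have hθx : (θ : St2 → ℂ) y6 = -1 := by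
    have h1 := hθ y6
    rw [y6_fix] at h1
    linear_combination -h1
  have hμ1 : (μ : Spor.HS → ℂ) 1 = 22 := by
    have h1 := hμ 1
    have h6 : lchi inc 1 = 24 := by
      rw [lchi, map_one, Cfsg.Agent.SigZeroCo2.Lin.tr8_one]
      norm_num
    rw [h6] at h1
    linear_combination -h1
  refine evMix_of_order (x := k y6) (p := 3) ⟨μ, fun α => ?_⟩ (by norm_num) (by norm_num) order
  -- the character `μ ∘ α` restricted to `M22`
  have hirr : IsIrrCharacter Spor.HS ((μ : Spor.HS → ℂ) ∘ α) :=
    isIrr_comp (α : Spor.HS →* Spor.HS) α.surjective μ.2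
  have hc := isCharacter_comp k (isIrr_isCharacter hirr)
  have h1 : (((μ : Spor.HS → ℂ) ∘ α) ∘ k) 1 = 22 := by
    simp [hμ1]
  rcases char22 isM22 hθ21 hc h1 with h2 | h2
  · exfalso
    have h3 : ((μ : Spor.HS → ℂ) ∘ α) (k y6) = ((μ : Spor.HS → ℂ) ∘ α) 1 := by
      have h4 := h2 y6
      rw [Function.comp_apply] at h4
      rw [h4]
      simp [hμ1]
    have h4 := eq_one_of_const hirr (fun h => by
      have := order
      rw [h, orderOf_one] at this
      norm_num at this) h3
    have h5 := congrFun h4 1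
    simp only [Function.comp_apply, map_one, hμ1, Pi.one_apply] at h5
    norm_num at h5
  · have h3 := h2 y6
    rw [hθx] at h3
    simpa using h3

end Cfsg.Agent.H419.Spor.HS

private theorem dce_99a0fa36c122 : _root_.True := by
  try have : _root_.True := by simp only [_root_.Cfsg.Agent.H419.Spor.HS.y6.eq_1]
  exact _root_.True.intro
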