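import Cfsg.Agent.H419.TwoTrans_m3
import Cfsg.Agent.TypeM.FactsMcL
import Cfsg.Agent.SporRec.TwoAnCycle
import Cfsg.Agent.FastGrp
import Cfsg.Agent.Prune
set_option linter.all false
prune_inst 0x7f00000000000000000000000000000000000000000000000000000000000000000000000000000000000000000000000000000000000000000000000000000000000000000000000000000000000000003fffffffffffffffffffffffffffbeffbdffffffff
open scoped Cfsg.Agent.FastGrp

/-!
# `McL`: elements of order 14

The centralizer of an involution is `2.A₈`, elements of order 14 are self-centralizing and there are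
more than 14 classes.
-/

set_option autoImplicit false

namespace Cfsg.Agent.H419.Spor.McL

open Cfsg Cfsg.Agent.H713 Cfsg.Agent.H419.Row Cfsg.Agent.H419.Count Cfsg.Agent.H419.RowC Subgroup Equiv
open Cfsg.Agent.TypeM.Two Cfsg.Agent.SporRec.TwoAn

/-- the 7-cycle -/
def s7 : Perm (Fin 8) := c[0, 1, 2, 3, 4, 5, 6]
def s5 : Perm (Fin 8) := c[0, 1, 2, 3, 4]
def s3 : Perm (Fin 8) := c[5, 6, 7]
def s4 : Perm (Fin 8) := c[0, 1, 2, 3] * c[4, 5]
def s2 : Perm (Fin 8) := swap 0 1 * swap 2 3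

section

variable {C : Type*} [Group C] (K : Cover (Fin 8) C)

theorem exists_lift_odd {σ : Perm (Fin 8)} (h : Perm.sign σ = 1) {n : ℕ} (hn : Odd n)
    (ho : orderOf σ = n) : ∃ g, K.π g = σ ∧ orderOf g = n := by
  obtain ⟨g, hg, hg2⟩ := K.exists_odd_lift (Perm.mem_alternatingGroup.2 h) hn
    (by rw [← ho]; exact pow_orderOf_eq_one σ)
  refine ⟨g, hg, Nat.dvd_antisymm (orderOf_dvd_of_pow_eq_one hg2) ?_⟩
  rw [← ho, ← hg]
  exact orderOf_map_dvd K.π g

theorem orderOf_z_mul {g : C} {n : ℕ} (hn : Odd n) (hg : orderOf g = n) : orderOf (K.z * g) = 2 * n := by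
  have hc : Commute K.z g := (K.z_comm g).symm
  rw [hc.orderOf_mul_eq_mul_orderOf_of_coprime, K.orderOf_z, hg]
  rw [K.orderOf_z, hg]
  exact (Nat.coprime_two_left).2 hn

theorem orderOf_s7 : orderOf s7 = 7 := by
  have : Fact (Nat.Prime 7) := ⟨by norm_num⟩
  exact orderOf_eq_prime (by decide +kernel) (by decide +kernel)

theorem orderOf_s5 : orderOf s5 = 5 := by
  have : Fact (Nat.Prime 5) := ⟨by norm_num⟩
  exact orderOf_eq_prime (by decide +kernel) (by decide +kernel)

theorem orderOf_s3 : orderOf s3 = 3 := by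
  have : Fact (Nat.Prime 3) := ⟨by norm_num⟩
  exact orderOf_eq_prime (by decide +kernel) (by decide +kernel)

include K in
/-- elements of order 8 -/
theorem exists_eight : ∃ g : C, orderOf g = 8 := by
  obtain ⟨g, hg⟩ := K.exists_lift (σ := s4) (Perm.mem_alternatingGroup.2 (by decide +kernel))
  have h2 : (g ^ 2) * (g ^ 2) = K.z := by
    refine K.dbl 0 2 1 3 (by decide) (by decide) (by decide) (by decide) (by decide) (by decide) _ ?_
    rw [map_pow, hg]
    decide +kernel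
  refine ⟨g, ?_⟩
  have : Fact (Nat.Prime 2) := ⟨Nat.prime_two⟩
  refine orderOf_eq_prime_pow (p := 2) (n := 2) ?_ ?_
  · have : g ^ 2 ^ 2 = K.z := by rw [← h2]; group
    rw [this]; exact K.z_ne
  · have : g ^ 2 ^ (2 + 1) = K.z * K.z := by rw [← h2]; group
    rw [this]; exact K.z_mul_z

theorem exists_four : ∃ g : C, K.π g = s2 ∧ orderOf g = 4 := by
  obtain ⟨g, hg⟩ := K.exists_lift (σ := s2) (Perm.mem_alternatingGroup.2 (by decide +kernel))
  have h2 : g * g = K.z := K.dbl 0 1 2 3 (by decide) (by decide) (by decide) (by decide) (by decide)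
    (by decide) _ hg
  refine ⟨g, hg, ?_⟩
  have : Fact (Nat.Prime 2) := ⟨Nat.prime_two⟩
  refine orderOf_eq_prime_pow (p := 2) (n := 1) ?_ ?_
  · have : g ^ 2 ^ 1 = K.z := by rw [← h2, pow_one, pow_two]
    rw [this]; exact K.z_ne
  · have : g ^ 2 ^ (1 + 1) = K.z * K.z := by rw [← h2, pow_succ 2 1, pow_one, pow_mul, pow_two, pow_two]
    rw [this]; exact K.z_mul_z

include K in
theorem exists_orders (n : ℕ) (hn : n ∈ ({1, 2, 3, 4, 5, 6, 7, 8, 10, 12, 14, 15, 30} : Finset ℕ)) :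
    ∃ g : C, orderOf g = n := by
  obtain ⟨g7, hg7, h7⟩ := exists_lift_odd K (σ := s7) (by decide +kernel) (by decide) orderOf_s7
  obtain ⟨g5, hg5, h5⟩ := exists_lift_odd K (σ := s5) (by decide +kernel) (by decide) orderOf_s5
  obtain ⟨g3, hg3, h3⟩ := exists_lift_odd K (σ := s3) (by decide +kernel) (by decide) orderOf_s3
  obtain ⟨g4, hg4, h4⟩ := exists_four K
  have h53 : orderOf (g5 * g3) = 15 := by
    have hc : Commute g5 g3 := K.commute_of_disjoint (by
      rw [hg5, hg3]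
      intro x
      revert x
      decide +kernel)
    rw [hc.orderOf_mul_eq_mul_orderOf_of_coprime, h5, h3]
    rw [h5, h3]; decide
  have h43 : orderOf (g4 * g3) = 12 := by
    have hc : Commute g4 g3 := K.commute_of_disjoint (by
      rw [hg4, hg3]
      intro x
      revert x
      decide +kernel)
    rw [hc.orderOf_mul_eq_mul_orderOf_of_coprime, h4, h3]
    rw [h4, h3]; decide
  simp only [Finset.mem_insert, Finset.mem_singleton] at hn
  rcases hn with rfl | rfl | rfl | rfl | rfl | rfl | rfl | rfl | rfl | rfl | rfl | rfl | rfl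
  · exact ⟨1, orderOf_one⟩
  · exact ⟨K.z, K.orderOf_z⟩
  · exact ⟨g3, h3⟩
  · exact ⟨g4, h4⟩
  · exact ⟨g5, h5⟩
  · exact ⟨_, orderOf_z_mul K (by decide) h3⟩
  · exact ⟨g7, h7⟩
  · exact exists_eight K
  · exact ⟨_, orderOf_z_mul K (by decide) h5⟩
  · exact ⟨_, h43⟩
  · exact ⟨_, orderOf_z_mul K (by decide) h7⟩
  · exact ⟨_, h53⟩
  · exact ⟨_, orderOf_z_mul K (by decide) h53⟩

theorem eq_pow_of_comm {ρ : Perm (Fin 8)} (h : ρ * s7 = s7 * ρ) : ∃ k : ℕ, ρ = s7 ^ k := by
  have h1 : ∀ k : ℕ, ρ * s7 ^ k = s7 ^ k * ρ := by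
    intro k
    induction k with
    | zero => simp
    | succ k ih => rw [pow_succ, ← mul_assoc, ih, mul_assoc, h, ← mul_assoc]
  have h2 : ∀ k : ℕ, ρ ((s7 ^ k) 0) = (s7 ^ k) (ρ 0) := fun k => congrArg (fun z => z 0) (h1 k)
  have h7 : ρ 7 = 7 := by
    have h3 : ρ 7 = s7 (ρ 7) := by
      have := congrArg (fun z => z 7) h
      exact this
    have h4 : ∀ i : Fin 8, i = s7 i → i = 7 := by decide +kernel
    exact h4 _ h3
  have h0 : ρ 0 ≠ 7 := fun h3 => absurd (ρ.injective (h3.trans h7.symm)) (by decide)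
  obtain ⟨k, hk⟩ : ∃ k : ℕ, ρ 0 = (s7 ^ k) 0 := by
    have h5 : ∀ i : Fin 8, i ≠ 7 → i = (s7 ^ (i : ℕ)) 0 := by decide +kernel
    exact ⟨_, h5 _ h0⟩
  refine ⟨k, ?_⟩
  have h6 : ∀ i : Fin 8, i = 7 ∨ ∃ j : ℕ, i = (s7 ^ j) 0 := by
    intro i
    by_cases h : i = 7
    · exact Or.inl h
    · have h5 : ∀ i : Fin 8, i ≠ 7 → i = (s7 ^ (i : ℕ)) 0 := by decide +kernel
      exact Or.inr ⟨_, h5 _ h⟩
  ext i
  congr 1
  rcases h6 i with rfl | ⟨j, rfl⟩
  · rw [h7]
    have : ∀ k : ℕ, (s7 ^ k) 7 = 7 := by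
      intro k
      induction k with
      | zero => rfl
      | succ k ih => rw [pow_succ', Perm.mul_apply, ih]; decide +kernel
    exact (this k).symm
  · rw [h2 j, hk, ← Perm.mul_apply, ← Perm.mul_apply, ← pow_add, ← pow_add, add_comm]

/-- `7`-cycles are not inverted by even permutations. -/
theorem not_inv {ρ : Perm (Fin 8)} (h : ρ * s7 = s7⁻¹ * ρ) (hs : Perm.sign ρ = 1) : False := by
  have hκ : ∃ κ : Perm (Fin 8), κ * s7 = s7⁻¹ * κ ∧ Perm.sign κ = -1 :=
    ⟨c[0, 6] * c[1, 5] * c[2, 4], by decide +kernel, by decide +kernel⟩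
  obtain ⟨κ, hκ1, hκ2⟩ := hκ
  have h1 : (κ⁻¹ * ρ) * s7 = s7 * (κ⁻¹ * ρ) := by
    have h2 : κ⁻¹ * s7⁻¹ = s7 * κ⁻¹ := by
      rw [inv_mul_eq_iff_eq_mul, ← mul_assoc, hκ1, mul_assoc, mul_inv_cancel, mul_one]
    rw [mul_assoc, h, ← mul_assoc, h2, mul_assoc]
  obtain ⟨k, hk⟩ := eq_pow_of_comm h1
  have h2 := congrArg Perm.sign hk
  rw [map_mul, map_inv, hs, hκ2, map_pow] at h2
  have h3 : Perm.sign s7 = 1 := by decide +kernel
  rw [h3, one_pow] at h2
  exact absurd h2 (by decide)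

end

theorem rowC {M : Type*} [Group M] (h : Spor.IsoMcL M) : RowC M 7 14 := by
  obtain ⟨hfin, hsimple, hcard, ⟨L⟩⟩ := TypeM.FactsMcL.facts h
  obtain ⟨g7, hg7, h7⟩ := exists_lift_odd L.K (σ := s7) (by decide +kernel) (by decide) orderOf_s7
  have ht := L.orderOf_t
  have h7' : orderOf (g7 : M) = 7 := by rw [Subgroup.orderOf_coe, h7]
  have hc : Commute L.t (g7 : M) := (L.mem_iff.1 g7.2).symm
  have hx : orderOf (L.t * (g7 : M)) = 14 := by
    rw [hc.orderOf_mul_eq_mul_orderOf_of_coprime, ht, h7']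
    rw [ht, h7']; decide
  have hcop : (orderOf L.t).Coprime (orderOf (g7 : M)) := by rw [ht, h7']; decide
  -- the centralizer
  have hcen : centralizer ({L.t * (g7 : M)} : Set M) = zpowers (L.t * (g7 : M)) := by
    apply le_antisymm
    · intro g hg
      rw [centralizer_mul hc hcop, mem_inf] at hg
      have h1 : g * g7 = g7 * g := mem_centralizer_singleton_iff.1 hg.2
      have h2 : L.K.π ⟨g, hg.1⟩ * s7 = s7 * L.K.π ⟨g, hg.1⟩ := by
        rw [← hg7, ← map_mul, ← map_mul]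
        congr 1
        exact Subtype.ext h1
      obtain ⟨k, hk⟩ := eq_pow_of_comm h2
      have htz : L.t ∈ zpowers (L.t * (g7 : M)) := by
        refine mem_zpowers_iff.2 ⟨7, ?_⟩
        have e1 : (g7 : M) ^ 7 = 1 := by rw [← h7']; exact pow_orderOf_eq_one _
        have e2 : L.t ^ 7 = L.t := by
          calc L.t ^ 7 = (L.t * L.t) ^ 3 * L.t := by rw [← pow_two, ← pow_mul, ← pow_succ]
            _ = L.t := by rw [L.t_mul_t, one_pow, one_mul]
        rw [show (7 : ℤ) = ((7 : ℕ) : ℤ) from rfl, zpow_natCast, hc.mul_pow, e1, mul_one, e2]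
      have hgz : (g7 : M) ∈ zpowers (L.t * (g7 : M)) := by
        have := (zpowers (L.t * (g7 : M))).mul_mem ((zpowers (L.t * (g7 : M))).inv_mem htz)
          (mem_zpowers (L.t * (g7 : M)))
        rwa [inv_mul_cancel_left] at this
      rw [← hg7, ← map_pow] at hk
      rcases L.K.lift_eq hk with h3 | h3
      · have h4 : g = (g7 : M) ^ k := congrArg Subtype.val h3
        rw [h4]
        exact pow_mem hgz k
      · have h4 : g = (g7 : M) ^ k * L.t :=
          (congrArg Subtype.val h3).trans (congrArg (fun z => (g7 : M) ^ k * z) L.hz)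
        rw [h4]
        exact mul_mem (pow_mem hgz k) htz
    · rw [zpowers_le]
      exact mem_centralizer_singleton_iff.2 rfl
  have hcc : Nat.card (centralizer ({L.t * (g7 : M)} : Set M)) = 14 := by
    rw [hcen, Nat.card_zpowers, hx]
  -- orders
  have hord : ∀ n ∈ ({1, 2, 3, 4, 5, 6, 7, 8, 10, 11, 12, 14, 15, 30} : Finset ℕ), ∃ g : M, orderOf g = n := by
    intro n hn
    by_cases h9 : n ∈ ({1, 2, 3, 4, 5, 6, 7, 8, 10, 12, 14, 15, 30} : Finset ℕ)
    · obtain ⟨g, hg⟩ := exists_orders L.K n h9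
      exact ⟨g, by rw [Subgroup.orderOf_coe, hg]⟩
    · have h3 : n = 11 := by
        simp only [Finset.mem_insert, Finset.mem_singleton] at hn h9
        omega
      subst h3
      have : Fact (Nat.Prime 11) := ⟨by norm_num⟩
      exact exists_prime_orderOf_dvd_card' 11 (by rw [hcard]; norm_num)
  have hnc : ¬ IsConj (L.t * (g7 : M)) (L.t * (g7 : M))⁻¹ := by
    intro hcon
    obtain ⟨g, hg⟩ := isConj_iff.1 hcon
    have e1 : (L.t * (g7 : M)) ^ 7 = L.t := by
      have e1 : (g7 : M) ^ 7 = 1 := by rw [← h7']; exact pow_orderOf_eq_one _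
      have e2 : L.t ^ 7 = L.t := by
        calc L.t ^ 7 = (L.t * L.t) ^ 3 * L.t := by rw [← pow_two, ← pow_mul, ← pow_succ]
          _ = L.t := by rw [L.t_mul_t, one_pow, one_mul]
      rw [hc.mul_pow, e1, mul_one, e2]
    have e3 : g * L.t * g⁻¹ = L.t := by
      have := congrArg (fun z => z ^ 7) hg
      simp only [conj_pow, inv_pow] at this
      rw [e1] at this
      rw [this, L.t_inv]
    have hgm : g ∈ centralizer ({L.t} : Set M) := by
      rw [mem_centralizer_singleton_iff]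
      exact mul_inv_eq_iff_eq_mul.1 e3
    have e4 : g * (g7 : M) * g⁻¹ = (g7 : M)⁻¹ := by
      have h5 : g * (L.t * (g7 : M)) * g⁻¹ = (g * L.t * g⁻¹) * (g * (g7 : M) * g⁻¹) := by group
      rw [h5, e3, hc.eq, mul_inv_rev, L.t_inv] at hg
      exact mul_left_cancel hg
    have e5 : (⟨g, hgm⟩ : centralizer ({L.t} : Set M)) * g7 = g7⁻¹ * ⟨g, hgm⟩ := by
      apply Subtype.ext
      exact mul_inv_eq_iff_eq_mul.1 e4
    refine not_inv (ρ := L.K.π ⟨g, hgm⟩) ?_ (Perm.mem_alternatingGroup.1 (L.K.mem_alternating _))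
    rw [← hg7, ← map_inv, ← map_mul, ← map_mul, e5]
  have hk := card_orders_succ_le _ hord hnc (orderOf_inv _).symm
  have h14 : ({1, 2, 3, 4, 5, 6, 7, 8, 10, 11, 12, 14, 15, 30} : Finset ℕ).card = 14 := by decide
  have hv : Van M (L.t * (g7 : M)) := van_of_card_lt (by omega)
  refine RowC.rowC (by norm_num) (by norm_num) ht h7' hc ?_ ?_ hv hcc
  · intro hd
    have := hd.trans (Subgroup.card_subgroup_dvd_card _)
    rw [hcard] at this
    revert this
    norm_num
  · intro α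
    have h1 : α L.t * α L.t = 1 := by rw [← map_mul, L.t_mul_t, map_one]
    have h2 : α L.t ≠ 1 := by
      intro h
      exact L.t_ne (α.injective (h.trans (map_one α).symm))
    obtain ⟨g, hg⟩ := L.one _ h1 h2
    exact isConj_iff.2 ⟨g, hg⟩

theorem evMix {M : Type*} [Group M] (h : Spor.IsoMcL M) : EvMix M :=
  (rowC h).evMix (by norm_num) (by norm_num)

end Cfsg.Agent.H419.Spor.McL
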