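import Cfsg.Agent.H419.MinDeg
import Cfsg.Agent.H419.TwoTrans_m3
import Cfsg.Agent.H713.Spor.M
import Cfsg.Agent.H847.MonDeg
import Cfsg.Agent.S5540
import Cfsg.Agent.Prune
set_option linter.all false
prune_inst 0x7f00000000000000000000000000000000000000000000000000000000000000000000000000000000000000000000000000000000000000000000000000000000000000000000000000000000000000003fffffffffffffffffffffffffffbeffbdffffffff
open scoped Cfsg.Agent.FastGrp

/-!
# The Monster: elements of order 94

`196883 = 47 * 59 * 71` is the degree of an irreducible character: S5540 and the bound of helper847.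
-/

set_option autoImplicit false

namespace Cfsg.Agent.H419.Spor.Monster

open Cfsg Cfsg.Agent.H713 Cfsg.Agent.H419.Row Cfsg.Agent.MonsterX.Model
  Cfsg.Agent.MonsterX.MainPack Cfsg.Agent.MonsterX.MainSimple Cfsg.Agent.MonsterX.MainBasic Cfsg.Agent.MonsterU.Assembly

theorem card_m : Nat.card Spor.Monster = 808017424794512875886459904961710757005754368000000000 :=
  Cfsg.Agent.H713.Spor.M.card_eq ⟨MulEquiv.refl _⟩

theorem finite_m : Finite Spor.Monster :=
  Nat.finite_of_card_ne_zero (by rw [card_m]; norm_num)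

theorem exists_irr : ∃ χ : IrrCharacter Spor.Monster, charDegree (χ : Spor.Monster → ℂ) = 196883 := by
  have := finite_m
  have : Nontrivial Spor.Monster := by
    rw [← Finite.one_lt_card_iff_nontrivial, card_m]
    norm_num
  obtain ⟨ρ, hρ, -⟩ := Cfsg.Agent.S5540.result
  refine Cfsg.Agent.H419.MinDeg.exists_irr_of_real ?_ ρ hρ
  intro n σ hn g
  by_contra hg
  have h1 := Cfsg.Agent.H847.MonDeg.bound σ ⟨g, hg⟩
  rw [Module.finrank_fin_fun] at h1
  omega

theorem dz : DZ 47 Spor.Monster := by
  have := finite_m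
  obtain ⟨χ, hχ⟩ := exists_irr
  refine dz_of_dvd (n := 1) χ ?_ ?_ (by norm_num)
  · rw [hχ]; norm_num
  · rw [card_m]
    exact factorization_eq (m := 17191860102010912252903402233227888446930944000000000)
      (by norm_num) (by norm_num) (by norm_num)

theorem evMix : EvMix Spor.Monster := by
  have := finite_m
  obtain ⟨f⟩ := Cfsg.Agent.MonsterP.Equiv.equiv
  have A := Cfsg.Agent.MonsterU.Uncond.all
  have hd : 47 ∣ Nat.card (Subgroup.centralizer ({tG A.hG A.hR} : Set _)) := by
    rw [card_cent_t A.hG A.hR A.hL A.hO A.hT]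
    norm_num
  have ht := Cfsg.Agent.H713.Spor.MOf.orderOf_t A.hG A.hR
  have := G_finite A.hO
  have : Fact (Nat.Prime 47) := ⟨by norm_num⟩
  obtain ⟨⟨y, hy⟩, hy2⟩ := exists_prime_orderOf_dvd_card' 47 hd
  rw [Subgroup.orderOf_mk] at hy2
  have hc : Commute (tG A.hG A.hR) y := (Subgroup.mem_centralizer_singleton_iff.1 hy).symm
  have ho : orderOf (tG A.hG A.hR * y) = 2 * 47 := by
    rw [hc.orderOf_mul_eq_mul_orderOf_of_coprime (by rw [ht, hy2]; norm_num), ht, hy2]
  exact evMix_of_dz' (x := f.symm (tG A.hG A.hR * y)) dz (by norm_num) (by norm_num)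
    (by rw [MulEquiv.orderOf_eq, ho])

theorem evMix_m {S : Type*} [Group S] (h : Spor.IsoM S) : EvMix S := by
  obtain ⟨e⟩ := h
  exact EvMix.mulEquiv e.symm evMix

end Cfsg.Agent.H419.Spor.Monster
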