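import Cfsg.Agent.H113.PSU.Rank3_m3
import Cfsg.Agent.H713.Spor.Fi22
import Cfsg.Agent.H713.Spor.Fi23
import Cfsg.Agent.H713.Spor.FiTF
import Cfsg.Agent.S1689
import Cfsg.Agent.S1691
import Cfsg.Agent.Fischer.Fi24Index_m3
import Cfsg.Agent.H424.DegTools
import Cfsg.Agent.H419.TwoTrans_m3
import Cfsg.Agent.Prune
set_option linter.all false
prune_inst 0x7f00000000000000000000000000000000000000000000000000000000000000000000000000000000000000000000000000000000000000000000000000000000000000000000000000000000000000003fffffffffffffffffffffffffffbeffbdffffffff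
open scoped Cfsg.Agent.FastGrp

/-!
# The Fischer groups

* `evMix_fi22` : elements of order 22, helper713's character of 11-defect zero
* `evMix_fi23` : elements of order 26, a constituent of the permutation character of rank 3
* `evMix_fi24` : elements of order 22, a constituent of the permutation character of rank 3
-/

set_option autoImplicit false

namespace Cfsg.Agent.H419.Spor.Fi

open Cfsg Cfsg.Agent.H713 Cfsg.Agent.H419.Row Cfsg.Agent.H665.NoPQ

universe u

/-- Even times odd from a centralizer. -/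
theorem evMix_of_cent {G : Type*} [Group G] [Finite G] {p : ℕ} (hp : p.Prime) (hp2 : p ≠ 2)
    (h : HasDZ p G) {t : G} (ht : orderOf t = 2)
    (hd : p ∣ Nat.card (Subgroup.centralizer ({t} : Set G))) : EvMix G := by
  have : Fact p.Prime := ⟨hp⟩
  obtain ⟨⟨y, hy⟩, hy2⟩ := exists_prime_orderOf_dvd_card' p hd
  rw [Subgroup.orderOf_mk] at hy2
  have hc : Commute t y := (Subgroup.mem_centralizer_singleton_iff.1 hy).symm
  have hcop : (orderOf t).Coprime (orderOf y) := by
    rw [ht, hy2]
    exact (Nat.coprime_primes Nat.prime_two hp).2 (Ne.symm hp2)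
  have ho : orderOf (t * y) = 2 * p := by
    rw [hc.orderOf_mul_eq_mul_orderOf_of_coprime hcop, ht, hy2]
  exact evMix_of_order (HasDZ.vz h (ho ▸ Dvd.intro_left _ rfl)) hp hp2 ho

theorem evMix_fi22 {S : Type*} [Group S] (h : Spor.IsoFi22 S) : EvMix S := by
  obtain ⟨e⟩ := h
  have : Fact (Nat.Prime 11) := ⟨by norm_num⟩
  obtain ⟨x, hx⟩ := Cfsg.Agent.H713.Spor.Fi22.exists_22 e
  have := (Cfsg.Agent.LThreeFi22.Inst.ctx e).finite
  exact evMix_of_order (p := 11) (HasDZ.vz (Cfsg.Agent.H713.Spor.Fi22.hasDZ_11 e) (by rw [hx]; norm_num))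
    (by norm_num) (by norm_num) hx

/-! ### `Fi23` -/

theorem hasDZ_fi23_13 : HasDZ 13 Spor.Fi23 := by
  have : Fact (Nat.Prime 13) := ⟨by norm_num⟩
  have := Cfsg.Agent.H713.Spor.Fi23.finite_fi23
  obtain ⟨h1, h2⟩ := Cfsg.Agent.S1689.result
  have hc := Cfsg.Agent.Fischer.Fi23Simple.card_Fi23
  refine Cfsg.Agent.H690.Spor.RankThree.hasDZ_of_index _ (k := 3510) (l := 28160) h1 h2 (by norm_num)
    (by norm_num) (by norm_num) (Or.inr ?_) ?_ ?_
  · rw [hc]; norm_num
  · rw [hc]; exact factorization_eq_one (by norm_num) (by norm_num)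
  · rw [factorization_eq_one (by norm_num) (by norm_num)]
    decide

theorem evMix_fi23 {S : Type*} [Group S] (h : Spor.IsoFi23 S) : EvMix S := by
  obtain ⟨e⟩ := h
  refine EvMix.mulEquiv e.symm ?_
  have := Cfsg.Agent.H713.Spor.Fi23.finite_fi23
  refine evMix_of_cent (p := 13) (by norm_num) (by norm_num) hasDZ_fi23_13
    Cfsg.Agent.H713.Spor.Fi23.orderOf_z0 ?_
  rw [Cfsg.Agent.H713.Spor.Fi23.card_z0]
  norm_num

/-! ### `Fi24'` -/

/-- Characters of defect zero restrict to normal subgroups of index prime to `p`. -/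
theorem hasDZ_normal {G : Type*} [Group G] [Finite G] {p : ℕ} (hp : p.Prime) (h : HasDZ p G)
    (N : Subgroup G) [N.Normal] (hN : ¬ p ∣ N.index) : HasDZ p N := by
  obtain ⟨χ, hχ⟩ := h
  obtain ⟨c, ⟨θ, rfl⟩, h1, h2⟩ := Cfsg.Agent.H424.DegTools.clifford_down N (d := charDegree (χ : G → ℂ)) ⟨χ, rfl⟩
  refine ⟨θ, ?_⟩
  have hpos := (Blocks.Basic.charDegree_pos χ.2).ne'
  have hθ := (Blocks.Basic.charDegree_pos θ.2).ne'
  obtain ⟨k, hk⟩ := h1
  have hk0 : k ≠ 0 := by
    rintro rfl
    rw [mul_zero] at hk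
    exact hpos hk
  have hkd : charDegree (χ : G → ℂ) / charDegree (θ : N → ℂ) = k := by
    rw [hk]
    exact Nat.mul_div_cancel_left k (Nat.pos_of_ne_zero hθ)
  rw [hkd] at h2
  have hkp : k.factorization p = 0 :=
    Nat.factorization_eq_zero_of_not_dvd fun h3 => hN (h3.trans h2)
  have e1 : (charDegree (χ : G → ℂ)).factorization p = (charDegree (θ : N → ℂ)).factorization p := by
    rw [hk, Nat.factorization_mul hθ hk0, Finsupp.add_apply, hkp, add_zero]
  have e2 : (Nat.card G).factorization p = (Nat.card N).factorization p := by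
    rw [← N.card_mul_index, Nat.factorization_mul Nat.card_pos.ne' Subgroup.index_ne_zero_of_finite,
      Finsupp.add_apply, Nat.factorization_eq_zero_of_not_dvd hN, add_zero]
  rw [← e1, ← e2, hχ]

theorem card_fi24 : Nat.card Spor.Fi24 = 2510411418381323442585600 := by
  rw [← (commutator Spor.Fi24).card_mul_index, Cfsg.Agent.S1691.result,
    Cfsg.Agent.R08.FiTwentyFour.card_commutator]

theorem hasDZ_fi24_11 : HasDZ 11 Spor.Fi24 := by
  have : Fact (Nat.Prime 11) := ⟨by norm_num⟩
  have := Cfsg.Agent.R08.FiTwentyFour.finite_Fi24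
  obtain ⟨h1, -, h2⟩ := Cfsg.Agent.SporRec.Fi24Index.index_and_suborbits
  refine Cfsg.Agent.H690.Spor.RankThree.hasDZ_of_index _ (k := 31671) (l := 275264) h1 h2 (by norm_num)
    (by norm_num) (by norm_num) (Or.inl (by decide)) ?_ ?_
  · rw [card_fi24]; exact factorization_eq_one (by norm_num) (by norm_num)
  · rw [factorization_eq_one (by norm_num) (by norm_num)]
    decide

theorem hasDZ_fi24' : HasDZ 11 Spor.Fi24' := by
  have := Cfsg.Agent.R08.FiTwentyFour.finite_Fi24
  refine hasDZ_normal (by norm_num) hasDZ_fi24_11 (commutator Spor.Fi24) ?_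
  rw [Cfsg.Agent.S1691.result]
  norm_num

theorem evMix_fi24 {S : Type*} [Group S] (h : Spor.IsoFi24' S) : EvMix S := by
  obtain ⟨e⟩ := h
  refine EvMix.mulEquiv e.symm ?_
  have := Cfsg.Agent.H713.Spor.FiTF.finite'
  obtain ⟨t, a, b, P, ht, htab⟩ := Cfsg.Agent.H713.Spor.FiTF.exists_pair
  refine evMix_of_cent (p := 11) (by norm_num) (by norm_num) hasDZ_fi24' ht ?_
  exact (show 11 ∣ 2 * 64561751654400 by norm_num).trans (Cfsg.Agent.H713.Spor.FiTF.dvd_pair P htab)

end Cfsg.Agent.H419.Spor.Fi
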