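import Cfsg.Agent.BM.KHAll
import Cfsg.Agent.BabyM.Instance
import Cfsg.Agent.H665.DefZero
import Cfsg.Agent.H419.TwoTrans_m3
import Cfsg.Agent.FastGrp
import Cfsg.Agent.Prune
set_option linter.all false
prune_inst 0x7f00000000000000000000000000000000000000000000000000000000000000000000000000000000000000000000000000000000000000000000000000000000000000000000000000000000000000003fffffffffffffffffffffffffffbeffbdffffffff
open scoped Cfsg.Agent.FastGrp

/-!
# The Baby Monster: elements of order 46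

The product of two transpositions (the class with centralizer `2.2E6(2).2`) has order at most 4, and
23 does not divide the order of the centralizer of a transposition: by the criterion `defectZero_or`
of `H665.DefZero` there is a character of 23-defect zero.  The centralizer `2^(1+22).Co2` has
elements of order 23.
-/

set_option autoImplicit false

namespace Cfsg.Agent.H419.Spor.Baby

open Cfsg Cfsg.Agent.H713 Cfsg.Agent.H419.Row Cfsg.Agent.BabyM.Model

variable {W : Type} [AddCommGroup W] [Module ℚ W] {M : BData W} {K₀ : Type} [Group K₀] (A : BAll M K₀)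
  (B : BTrans M)

include B in
/-- The product of two transpositions. -/
theorem pow_le {g k : M.G} : ∃ n : ℕ, 0 < n ∧ n ≤ 4 ∧
    ((g * (⟨M.t₀, A.C_le_G A.t₀_C⟩ : M.G) * g⁻¹) * (k * ⟨M.t₀, A.C_le_G A.t₀_C⟩ * k⁻¹)) ^ n = 1 := by
  set t : M.G := ⟨M.t₀, A.C_le_G A.t₀_C⟩ with ht
  obtain ⟨j, h, hh, hc⟩ : ((g⁻¹ * k : M.G) : W ≃ₗ[ℚ] W) M.d₀ ∈ M.D :=
    ((A.G_le (g⁻¹ * k).2).2 _).2 A.d₀_mem
  obtain ⟨l, hl, hld, hord⟩ := B.order_le j
  obtain ⟨n, hn0, hn4, hpow⟩ := hord h⁻¹ (M.C.inv_mem hh)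
  have h1 := A.conj_t h l ((g⁻¹ * k : M.G) : W ≃ₗ[ℚ] W) (A.C_le hh) (A.G_le hl)
    (A.G_le (g⁻¹ * k).2) (Or.inl (by rw [hld, hc]))
  refine ⟨n, hn0, hn4, Subtype.ext ?_⟩
  have e2 : ((g * t * g⁻¹ * (k * t * k⁻¹) : M.G) : W ≃ₗ[ℚ] W) =
      ((g : W ≃ₗ[ℚ] W) * h) * ((h⁻¹ * M.t₀ * h⁻¹⁻¹) * (l * M.t₀ * l⁻¹)) *
        ((g : W ≃ₗ[ℚ] W) * h)⁻¹ := by
    have e3 : ((g * t * g⁻¹ * (k * t * k⁻¹) : M.G) : W ≃ₗ[ℚ] W) =
        (g : W ≃ₗ[ℚ] W) * (M.t₀ * (((g⁻¹ * k : M.G) : W ≃ₗ[ℚ] W) * M.t₀ *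
          ((g⁻¹ * k : M.G) : W ≃ₗ[ℚ] W)⁻¹)) * (g : W ≃ₗ[ℚ] W)⁻¹ := by
      push_cast
      rw [ht]
      group
    rw [e3, ← h1]
    group
  change ((g * t * g⁻¹ * (k * t * k⁻¹) : M.G) : W ≃ₗ[ℚ] W) ^ n = 1
  rw [e2, conj_pow, hpow, mul_one, mul_inv_cancel]

include A B in
theorem dz : ∃ χ : IrrCharacter M.G,
    (charDegree (χ : M.G → ℂ)).factorization 23 = (Nat.card M.G).factorization 23 := by
  have := A.finite_G
  have hp : Fact (Nat.Prime 23) := ⟨by norm_num⟩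
  set t : M.G := ⟨M.t₀, A.C_le_G A.t₀_C⟩ with ht
  have htt : t * t = 1 := Subtype.ext A.rep.t₀_sq
  rcases Cfsg.Agent.H665.DefZero.defectZero_or 23 t (by rw [A.card_cent B]; norm_num) with h | h
  · exact h
  · exfalso
    obtain ⟨g, k, hg, hk, hne, n, hn⟩ := h
    obtain ⟨a, rfl⟩ := isConj_iff.1 hg
    obtain ⟨b, rfl⟩ := isConj_iff.1 hk
    have hinv : (b * t * b⁻¹)⁻¹ = b * t * b⁻¹ := by
      rw [mul_inv_rev, mul_inv_rev, inv_inv, inv_eq_of_mul_eq_one_left htt, mul_assoc]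
    rw [hinv] at hne hn
    obtain ⟨m, hm0, hm4, hm⟩ := pow_le A B (g := a) (k := b)
    have h1 : orderOf (a * t * a⁻¹ * (b * t * b⁻¹)) ≤ 4 :=
      (orderOf_le_of_pow_eq_one hm0 hm).trans hm4
    rw [hn] at h1
    have h2 : n = 0 := by
      by_contra h3
      have : 23 ^ 1 ≤ 23 ^ n := Nat.pow_le_pow_right (by norm_num) (Nat.one_le_iff_ne_zero.2 h3)
      omega
    rw [h2, pow_zero] at hn
    exact hne (orderOf_eq_one_iff.1 hn)

include A B in
theorem evMix_model : EvMix M.G := by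
  have := A.finite_G
  have hz : M.z ∈ M.G := A.C_le_G (A.grp.Q_le A.grp.z_mem)
  set z : M.G := ⟨M.z, hz⟩ with hzdef
  have hz2 : orderOf z = 2 := by
    refine orderOf_eq_prime ?_ fun h => A.grp.z_ne (congrArg Subtype.val h)
    rw [pow_two]
    exact Subtype.ext A.grp.z_sq
  have hC : Nat.card M.C = 2 ^ 23 * 42305421312000 := A.grp.card_C
  have hle : M.C.subgroupOf M.G ≤ Subgroup.centralizer ({z} : Set M.G) := by
    intro x hx
    rw [Subgroup.mem_centralizer_singleton_iff]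
    exact Subtype.ext (A.grp.z_comm x hx)
  have hd : 23 ∣ Nat.card (Subgroup.centralizer ({z} : Set M.G)) := by
    refine dvd_trans ?_ (Subgroup.card_dvd_of_le hle)
    rw [Nat.card_congr (Subgroup.subgroupOfEquivOfLe (show M.C ≤ M.G from fun x hx => A.C_le_G hx)).toEquiv,
      hC]
    norm_num
  have : Fact (Nat.Prime 23) := ⟨by norm_num⟩
  obtain ⟨⟨y, hy⟩, hy2⟩ := exists_prime_orderOf_dvd_card' 23 hd
  rw [Subgroup.orderOf_mk] at hy2
  have hc : Commute z y := (Subgroup.mem_centralizer_singleton_iff.1 hy).symm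
  have ho : orderOf (z * y) = 2 * 23 := by
    rw [hc.orderOf_mul_eq_mul_orderOf_of_coprime (by rw [hz2, hy2]; norm_num), hz2, hy2]
  exact evMix_of_dz' (dz A B) (by norm_num) (by norm_num) ho

theorem evMix_b {S : Type*} [Group S] (h : Spor.IsoB S) : EvMix S := by
  obtain ⟨e⟩ := h
  refine EvMix.mulEquiv (e.trans Cfsg.Agent.BM.KHAll.iso).symm ?_
  exact evMix_model Cfsg.Agent.BabyM.Instance.all Cfsg.Agent.BabyM.Instance.tr

end Cfsg.Agent.H419.Spor.Baby
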